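import Cfsg.Agent.H313.AN.KList
import Cfsg.Agent.H487.AN.RowsB
import Cfsg.Agent.H603.FD.Spor
import Cfsg.Agent.H175.Eight.J1
import Cfsg.Agent.H417.JThreeDeg
import Cfsg.Agent.H90.K4.JThree
import Cfsg.Agent.H769.PB.CoThreeRank5
import Cfsg.Agent.H678.DG.HeDegA
import Cfsg.Agent.H999.DS.RowRu
import Cfsg.Agent.H492.FactsON
import Cfsg.Agent.H740.Eight.Tits
import Cfsg.Agent.H628.Sq.Tits
import Cfsg.Agent.NotCT.Orders

/-!
# S4766, C2: degrees of the sporadic groups and the Tits group (helper313)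
-/

set_option autoImplicit false
set_option linter.unusedSectionVars false

universe u

namespace Cfsg.Agent.H313.AN

open Cfsg Cfsg.Agent.H313.AD Cfsg.Agent.H681.DegBasic

/-- the group has a table of degrees which excludes it -/
def Row (K : Type u) [Group K] : Prop :=
  ∃ (p : ℕ) (L : List ℕ), p.Prime ∧ 7 ≤ p ∧ p ∣ Nat.card K ∧ Killed2 p L ∧ ∀ d ∈ L, d ≠ 1 ∧ d ∈ charDegrees K

theorem Row.mk' {K : Type u} [Group K] {p N : ℕ} {L : List ℕ} (hK : Killed2 p L) (hp : p.Prime) (h7 : 7 ≤ p)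
    (hN : Nat.card K = N) (hpN : N % p = 0) (h1 : L.all (fun d => d != 1) = true) (h : ∀ d ∈ L, d ∈ charDegrees K) :
    Row K := by
  refine ⟨p, L, hp, h7, by rw [hN]; exact Nat.dvd_of_mod_eq_zero hpN, hK, fun d hd => ⟨?_, h d hd⟩⟩
  simpa using List.all_eq_true.1 h1 d hd

theorem all_two {K : Type u} [Group K] {a b : ℕ} (ha : a ∈ charDegrees K) (hb : b ∈ charDegrees K) :
    ∀ d ∈ [a, b], d ∈ charDegrees K := by
  intro d hd
  simp only [List.mem_cons, List.not_mem_nil, or_false] at hd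
  rcases hd with rfl | rfl
  · exact ha
  · exact hb

theorem mem_of_val {K : Type u} [Group K] {X : Type} [Group X] (e : K ≃* X) {d : ℕ}
    (h : ∃ χ : IrrCharacter X, (χ : X → ℂ) 1 = (d : ℂ)) : d ∈ charDegrees K := by
  obtain ⟨χ, h1⟩ := h
  exact mem_charDegrees.2 ⟨(χ : X → ℂ) ∘ (e : K →* X), Characters.Core.isIrr_comp (e : K →* X) e.surjective χ.2, by
    rw [Function.comp_apply, map_one, h1]⟩

theorem mem_of_deg {K : Type u} [Group K] {X : Type} [Group X] [Finite X] (e : K ≃* X) {d : ℕ}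
    (h : ∃ χ : IrrCharacter X, charDegree (χ : X → ℂ) = d) : d ∈ charDegrees K := by
  obtain ⟨χ, h1⟩ := h
  refine mem_of_val e ⟨χ, ?_⟩
  rw [← h1]
  exact Blocks.Basic.irr_one_eq_charDegree χ.2

theorem mem_of_irr {K : Type u} [Group K] {d : ℕ} (h : ∃ χ : K → ℂ, IsIrrCharacter K χ ∧ χ 1 = (d : ℂ)) :
    d ∈ charDegrees K := mem_charDegrees.2 h

section

variable {K : Type u} [Group K] [Finite K]

theorem row_m11 (h : Spor.IsoM11 K) : Row K := by
  obtain ⟨h1, h2, h3, h4⟩ := H603.FD.Spor.m11 (UGT.End.MEleven.isM11 h)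
  exact Row.mk' Cfsg.Agent.H313.AN.K.m11 (by norm_num) (by norm_num) (NotCT.Orders.m11 h) (by norm_num) (by decide) (all_two h3 h1)

theorem row_m12 (h : Spor.IsoM12 K) : Row K := by
  obtain ⟨h1, h2, h3, h4⟩ := H603.FD.Spor.m12 (H603.FD.Spor.isM12 h)
  exact Row.mk' Cfsg.Agent.H313.AN.K.m12 (by norm_num) (by norm_num) (NotCT.Orders.m12 h) (by norm_num) (by decide) (all_two h1 h2)

theorem row_m22 (h : Spor.IsoM22 K) : Row K := by
  obtain ⟨h1, h2, h3, h4⟩ := H603.FD.Spor.m22 (H417.RecogMathieu.isM22 h)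
  exact Row.mk' Cfsg.Agent.H313.AN.K.m22 (by norm_num) (by norm_num) (NotCT.Orders.m22 h) (by norm_num) (by decide) (all_two h1 h2)

theorem row_m23 (h : Spor.IsoM23 K) : Row K := by
  obtain ⟨h1, h2, h3, h4⟩ := H603.FD.Spor.m23 (H417.RecogMathieu.isM23 h)
  exact Row.mk' Cfsg.Agent.H313.AN.K.m23 (by norm_num) (by norm_num) (NotCT.Orders.m23 h) (by norm_num) (by decide) (all_two h2 h1)

theorem row_m24 (h : Spor.IsoM24 K) : Row K := by
  obtain ⟨h1, h2, h3, h4⟩ := H603.FD.Spor.m24 (H417.RecogMathieu.isM24 h)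
  exact Row.mk' Cfsg.Agent.H313.AN.K.m24 (by norm_num) (by norm_num) (NotCT.Orders.m24 h) (by norm_num) (by decide) (all_two h1 h3)

theorem row_j1 (h : Spor.IsoJ1 K) : Row K :=
  Row.mk' Cfsg.Agent.H313.AN.K.j1 (by norm_num) (by norm_num) (NotCT.Orders.j1 h) (by norm_num) (by decide)
    (all_two ((H175.Eight.mem_j1 h 56).2 (by decide)) ((H175.Eight.mem_j1 h 76).2 (by decide)))

theorem row_j2 (h : Spor.IsoJ2 K) : Row K := by
  obtain ⟨h1, h2⟩ := H953.DS.exists_irr h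
  exact Row.mk' Cfsg.Agent.H313.AN.K.j2 (by norm_num) (by norm_num) (NotCT.Orders.j2 h) (by norm_num) (by decide)
    (all_two (mem_of_irr (by simpa using h1)) (mem_of_irr (by simpa using h2)))

theorem row_j3 (h : Spor.IsoJ3 K) : Row K := by
  obtain ⟨χ, ψ, -, -, -, h1, -⟩ := H90.K4.JThree.exists_two h
  obtain ⟨θ, h2⟩ := (H417.JThreeDeg.max_degree h).1
  refine Row.mk' Cfsg.Agent.H313.AN.K.j3 (by norm_num) (by norm_num) (NotCT.Orders.j3 h) (by norm_num) (by decide)
    (all_two (mem_of_irr ⟨χ, χ.2, h1⟩) (mem_of_irr ⟨θ, θ.2, ?_⟩))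
  rw [← h2]
  exact M23Order.Base.dg_eq θ

theorem row_j4 (h : Spor.IsoJ4 K) : Row K := by
  have h0 := h
  obtain ⟨e⟩ := h
  refine Row.mk' Cfsg.Agent.H313.AN.K.j4 (by norm_num) (by norm_num) (NotCT.Orders.j4 h0) (by norm_num) (by decide) ?_
  intro d hd
  simp only [List.mem_cons, List.not_mem_nil, or_false] at hd
  rcases hd with rfl | rfl | rfl | rfl | rfl
  · exact mem_of_val e H492.IMJ4.exists_889111
  · exact mem_of_val e H492.IMJ4.exists_1776888
  · exact mem_of_val e H492.IMJ4.exists_4290927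
  · exact mem_of_val e H492.IMJ4.exists_35411145
  · exact mem_of_val e H492.IMJ4.exists_95288172

theorem row_co1 (h : Spor.IsoCo1 K) : Row K := by
  have h0 := h
  obtain ⟨e⟩ := h
  have : Finite Spor.Co1 := Finite.of_equiv _ e.toEquiv
  exact Row.mk' Cfsg.Agent.H313.AN.K.co1 (by norm_num) (by norm_num) (NotCT.Orders.co1 h0) (by norm_num) (by decide)
    (all_two (mem_of_deg e H843.IMC.Co1B.hasDeg_276) (mem_of_deg e H843.IMC.Co1B.hasDeg_299))

theorem row_co2 (h : Spor.IsoCo2 K) : Row K := by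
  have h0 := h
  obtain ⟨e⟩ := h
  have : Finite Spor.Co2 := Finite.of_equiv _ e.toEquiv
  exact Row.mk' Cfsg.Agent.H313.AN.K.co2 (by norm_num) (by norm_num) (NotCT.Orders.co2 h0) (by norm_num) (by decide)
    (all_two (mem_of_deg e H843.IMC.Co2A.hasDeg_2024_275.2) (mem_of_deg e H843.IMC.Co2A.hasDeg_23))

theorem row_co3 (h : Spor.IsoCo3 K) : Row K := by
  have h0 := h
  obtain ⟨e⟩ := h
  have : Finite Spor.Co3 := Finite.of_equiv _ e.toEquiv
  obtain ⟨⟨χ, h1, -⟩, θ, h2, -⟩ := H769.PB.CoThreeRank5.exists_chars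
  exact Row.mk' Cfsg.Agent.H313.AN.K.co3 (by norm_num) (by norm_num) (NotCT.Orders.co3 h0) (by norm_num) (by decide)
    (all_two (mem_of_deg e ⟨χ, h1⟩) (mem_of_deg e ⟨θ, h2⟩))

theorem row_mcl (h : Spor.IsoMcL K) : Row K :=
  Row.mk' Cfsg.Agent.H313.AN.K.mcl (by norm_num) (by norm_num) (NotCT.Orders.mcl h) (by norm_num) (by decide)
    (all_two (mem_of_irr (H765.DS.HSMcL.mcl_252 h)) (mem_of_irr (H765.DS.HSMcL.mcl_22 h)))

theorem row_hs (h : Spor.IsoHS K) : Row K :=
  Row.mk' Cfsg.Agent.H313.AN.K.hs (by norm_num) (by norm_num) (NotCT.Orders.hs h) (by norm_num) (by decide)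
    (all_two (mem_of_irr (H765.DS.HSMcL.hs_22 h)) (mem_of_irr (H765.DS.HSMcL.hs_77 h)))

theorem row_suz (h : Spor.IsoSuz K) : Row K := by
  obtain ⟨h1, h2⟩ := H672.SporIM.suz h
  exact Row.mk' Cfsg.Agent.H313.AN.K.suz (by norm_num) (by norm_num) (NotCT.Orders.suz h) (by norm_num) (by decide)
    (all_two (mem_of_irr (H292.DS.apply_one h2)) (mem_of_irr (H292.DS.apply_one h1)))

theorem row_he (h : Spor.IsoHe K) : Row K := by
  have h0 := h
  obtain ⟨e⟩ := h
  have : Finite Spor.He := Finite.of_equiv _ e.toEquiv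
  exact Row.mk' Cfsg.Agent.H313.AN.K.he (by norm_num) (by norm_num) (NotCT.Orders.he h0) (by norm_num) (by decide)
    (all_two (mem_of_deg e H678.DG.HeDegA.deg_680) (mem_of_deg e H678.DG.HeDegA.deg_1275))

theorem row_ru (h : Spor.IsoRu K) : Row K := by
  have h0 := h
  obtain ⟨e⟩ := h
  obtain ⟨χ, θ, hχ, hθ⟩ := H999.DS.ru_chars
  exact Row.mk' Cfsg.Agent.H313.AN.K.ru (by norm_num) (by norm_num) (NotCT.Orders.ru h0) (by norm_num) (by decide)
    (all_two (mem_of_val (e.trans Cfsg.Agent.RuLat.Main.equiv) ⟨χ, hχ⟩)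
      (mem_of_val (e.trans Cfsg.Agent.RuLat.Main.equiv) ⟨θ, hθ⟩))

theorem row_on (h : Spor.IsoON K) : Row K := by
  have h0 := h
  obtain ⟨e⟩ := h
  exact Row.mk' Cfsg.Agent.H313.AN.K.on (by norm_num) (by norm_num) (NotCT.Orders.on h0) (by norm_num) (by decide)
    (all_two (mem_of_val e H492.FactsON.exists_10944) (mem_of_val e H492.FactsON.exists_32395))

theorem row_ly (h : Spor.IsoLy K) : Row K := by
  have h0 := h
  obtain ⟨e⟩ := h
  have : Finite Spor.Ly := Finite.of_equiv _ e.toEquiv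
  obtain ⟨χ, -, hχ⟩ := H314.LyOrb.exists_deg_ly
  exact Row.mk' Cfsg.Agent.H313.AN.K.ly (by norm_num) (by norm_num) (NotCT.Orders.ly h0) (by norm_num) (by decide)
    (all_two (mem_of_deg e ⟨χ 1, hχ 1⟩) (mem_of_deg e ⟨χ 2, hχ 2⟩))

theorem row_fi22 (h : Spor.IsoFi22 K) : Row K := by
  obtain ⟨h1, h2⟩ := H3.DS.Fi22.exists_deg h
  exact Row.mk' Cfsg.Agent.H313.AN.K.fi22 (by norm_num) (by norm_num) (NotCT.Orders.fi22 h) (by norm_num) (by decide)
    (all_two (mem_of_irr h1) (mem_of_irr h2))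

theorem row_fi23 (h : Spor.IsoFi23 K) : Row K := by
  obtain ⟨h1, h2⟩ := H672.SporIM.fi23 h
  exact Row.mk' Cfsg.Agent.H313.AN.K.fi23 (by norm_num) (by norm_num) (NotCT.Orders.fi23 h) (by norm_num) (by decide)
    (all_two (mem_of_irr (H292.DS.apply_one h2)) (mem_of_irr (H292.DS.apply_one h1)))

theorem row_fi24 (h : Spor.IsoFi24' K) : Row K := by
  have h0 := h
  obtain ⟨e⟩ := h
  have : Finite Spor.Fi24' := Finite.of_equiv _ e.toEquiv
  exact Row.mk' Cfsg.Agent.H313.AN.K.fi24 (by norm_num) (by norm_num) (NotCT.Orders.fi24 h0) (by norm_num) (by decide)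
    (all_two (mem_of_deg e H30.GraphFi24.exists_deg.1) (mem_of_deg e H30.GraphFi24.exists_deg.2))

theorem row_hn (h : Spor.IsoHN K) : Row K := by
  have h0 := h
  obtain ⟨e⟩ := h
  exact Row.mk' Cfsg.Agent.H313.AN.K.hn (by norm_num) (by norm_num) (NotCT.Orders.hn h0) (by norm_num) (by decide)
    (all_two (mem_of_val e H492.IMHN.exists_8910) (mem_of_val e H492.IMHN.exists_365750))

theorem row_th (h : Spor.IsoTh K) : Row K := by
  have h0 := h
  obtain ⟨e⟩ := h
  refine Row.mk' Cfsg.Agent.H313.AN.K.th (by norm_num) (by norm_num) (NotCT.Orders.th h0) (by norm_num) (by decide) ?_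
  intro d hd
  simp only [List.mem_cons, List.not_mem_nil, or_false] at hd
  rcases hd with rfl | rfl | rfl
  · exact mem_of_val e H492.FactsTh.exists_30875
  · exact mem_of_val e H492.FactsTh.exists_61256
  · exact mem_of_val e H492.FactsTh.exists_4881384

theorem row_b (h : Spor.IsoB K) : Row K := by
  refine Row.mk' Cfsg.Agent.H313.AN.K.b (by norm_num) (by norm_num) (NotCT.Orders.b h) (by norm_num) (by decide) (all_two ?_ ?_)
  · obtain ⟨χ, h1, -⟩ := H995.IMB.deg_b h (d := 96255) (by decide)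
    exact mem_of_irr ⟨χ, χ.2, h1⟩
  · obtain ⟨χ, h1, -⟩ := H995.IMB.deg_b h (d := 9458750) (by decide)
    exact mem_of_irr ⟨χ, χ.2, h1⟩

theorem row_m (h : Spor.IsoM K) : Row K := by
  refine Row.mk' Cfsg.Agent.H313.AN.K.m (by norm_num) (by norm_num) (NotCT.Orders.m h) (by norm_num) (by decide) (all_two ?_ ?_)
  · obtain ⟨χ, h1, h2⟩ := H816.IMM.exists_chi_196883 h
    exact mem_of_irr ⟨χ, h1, by rw [h2]; norm_num⟩
  · obtain ⟨χ, h1, h2⟩ := H816.IMM.exists_chi_842609326 h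
    exact mem_of_irr ⟨χ, h1, by rw [h2]; norm_num⟩

theorem row_tits (h : Lie.IsoTits K) : Row K :=
  Row.mk' Cfsg.Agent.H313.AN.K.tits (by norm_num) (by norm_num) (NotCT.Orders.tits h) (by norm_num) (by decide)
    (all_two (H628.Sq.Tits.mem_675 h) (H740.Eight.Tits.mem_27 h))

/-- **the sporadic groups** -/
theorem row_spor (h : IsSporadicGroup K) : Row K := by
  rcases h with h | h | h | h | h | h | h | h | h | h | h | h | h | h | h | h | h | h | h | h | h | h | h | h | h | h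
  · exact row_m11 h
  · exact row_m12 h
  · exact row_m22 h
  · exact row_m23 h
  · exact row_m24 h
  · exact row_j1 h
  · exact row_j2 h
  · exact row_j3 h
  · exact row_j4 h
  · exact row_co1 h
  · exact row_co2 h
  · exact row_co3 h
  · exact row_mcl h
  · exact row_hs h
  · exact row_suz h
  · exact row_he h
  · exact row_ru h
  · exact row_on h
  · exact row_ly h
  · exact row_fi22 h
  · exact row_fi23 h
  · exact row_fi24 h
  · exact row_hn h
  · exact row_th h
  · exact row_b h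
  · exact row_m h

end

end Cfsg.Agent.H313.AN
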