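import Cfsg.Agent.H313.AN.Num
import Cfsg.Agent.H313.AN.Rows

/-!
# S4766, C2: a minimal normal subgroup is simple (helper313)

`c2_of` : C2 from the Clifford theory (`Gen`), the classification and Itô–Michler.
-/

set_option autoImplicit false
set_option linter.unusedSectionVars false

universe u

namespace Cfsg.Agent.H313.AN

open Cfsg Subgroup Cfsg.Agent.H704 Cfsg.Agent.H704.DSA Cfsg.Agent.H691.AN Cfsg.Agent.H313.AD
open Cfsg.Agent.H704.DS (IM)

/-- no socle `S ^ k`, `k ≥ 2` -/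
theorem CT.false {n k : ℕ} {A : Type u} [Group A] [Finite A] {S : Subgroup A} (h : CT n k A S) (h5 : 5 ≤ n)
    (hkn : IsKnownSimple' S) (him : IM S) : False := by
  have hS := h.as.normal
  have hs := h.as.simple
  have hind : S.index ∣ Nat.card (Cfsg.Out S) := H816.OutEmb.index_dvd S (by rw [h.as.cent]; exact bot_le)
  rcases PreUniq.known_cases hkn with h1 | ⟨m, hm, ⟨e⟩⟩ | ⟨p, hp, h1⟩ | h1 | h1
  · have : Fact (Nat.card S).Prime := ⟨h1⟩
    have : IsCyclic S := isCyclic_of_prime_card (p := Nat.card S) rfl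
    exact h.as.nonab inferInstance
  · exact h.alt h5 him hm e
  · exact h.lie h5 him hp h1
  · have hi : S.index ∣ 2 := by
      have h2 := H867.TitsOut.card_out_le h1
      have h3 : 0 < Nat.card (Cfsg.Out S) := Nat.card_pos
      have h4 : Nat.card (Cfsg.Out S) = 1 ∨ Nat.card (Cfsg.Out S) = 2 := by omega
      rcases h4 with h4 | h4
      · rw [h4] at hind; exact hind.trans (one_dvd 2)
      · rw [h4] at hind; exact hind
    obtain ⟨p, L, hp, h7, hpS, hK, hL⟩ := row_tits h1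
    exact h.row him hi hK (by omega) hp h7 hpS hL
  · have hi : S.index ∣ 2 := hind.trans (H149.Sp.card_out_dvd_two h1)
    obtain ⟨p, L, hp, h7, hpS, hK, hL⟩ := row_spor h1
    exact h.row him hi hK (by omega) hp h7 hpS hL

/-- the Clifford theory of a minimal normal subgroup -/
def Gen : Prop :=
  ∀ {Y : Type u} [Group Y] [Finite Y] (W : Subgroup Y) (_ : W.Normal) (_ : W ≠ ⊥)
    (_ : ∀ K : Subgroup Y, K.Normal → K ≤ W → K = ⊥ ∨ K = W) (_ : ¬ IsMulCommutative W) (_ : ¬ IsSimpleGroup W),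
    ∃ (k : ℕ) (A : Type u) (_ : Group A) (_ : Finite A) (S : Subgroup A), 2 ≤ k ∧ AlmostSimple A S ∧
      (∀ (ψ : A → ℂ) (d : ℕ), IsIrrCharacter A ψ → ψ 1 = d → (∃ s ∈ S, ψ s ≠ ψ 1) → k * d ∈ charDegrees Y) ∧
      (∀ d ∈ charDegrees S, ∃ e ∈ charDegrees Y, d ^ k ∣ e) ∧
      (∀ (ψ : A → ℂ) (d : ℕ), IsIrrCharacter A ψ → ψ 1 = d → IsIrrCharacter S (fun s : S => ψ s) →
        d ^ k ∈ charDegrees Y)

/-- **C2**, given the Clifford theory, the classification and Itô–Michler -/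
theorem c2_of (gen : Gen.{u}) (hkn : ∀ (X : Type u) [Group X] [Finite X] [IsSimpleGroup X], IsKnownSimple' X)
    (him : ∀ (X : Type u) [Group X] [Finite X] [IsSimpleGroup X], ¬ IsMulCommutative X → IM X)
    {n : ℕ} (hn : 5 ≤ n) {Y : Type u} [Group Y] [Finite Y] (h : charDegrees Y ⊆ D n) (W : Subgroup Y)
    (hW : W.Normal) (hne : W ≠ ⊥) (hmin : ∀ K : Subgroup Y, K.Normal → K ≤ W → K = ⊥ ∨ K = W)
    (hna : ¬ IsMulCommutative W) : IsSimpleGroup W := by
  by_contra hns
  obtain ⟨k, A, _, _, S, hk, hA, h1, h2, h3⟩ := gen W hW hne hmin hna hns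
  have hs := hA.simple
  have hCT : CT n k A S := by
    refine ⟨hk, hA, fun ψ d a b c => ?_, fun d hd => ?_, fun ψ d a b c => ?_⟩
    · exact H89.AN.a2_part (by omega) (h (h1 ψ d a b c))
    · obtain ⟨e, he, hde⟩ := h2 d hd
      exact ⟨e, H89.AN.a2_part (by omega) (h he), hde⟩
    · exact H89.AN.a2_part (by omega) (h (h3 ψ d a b c))
  exact hCT.false hn (hkn S) (him S hA.nonab)

end Cfsg.Agent.H313.AN
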