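import Cfsg.Agent.H313.AltDeg.KillTwo

/-!
# S4766, C2: the numerical exclusion of the sporadic groups (helper313)
-/

set_option autoImplicit false
set_option maxRecDepth 100000

namespace Cfsg.Agent.H313.AN.K

open Cfsg.Agent.H313.AD

theorem m11 : Killed2 11 [16, 10] :=
  killed2_of (a := 16) (b := 10) (N := 23) (by decide +kernel) (by decide +kernel)

theorem m12 : Killed2 11 [16, 45] :=
  killed2_of (a := 16) (b := 45) (N := 23) (by decide +kernel) (by decide +kernel)

theorem m22 : Killed2 11 [21, 45] :=
  killed2_of (a := 21) (b := 45) (N := 23) (by decide +kernel) (by decide +kernel)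

theorem m23 : Killed2 23 [45, 230] :=
  killed2_of (a := 45) (b := 230) (N := 23) (by decide +kernel) (by decide +kernel)

theorem m24 : Killed2 23 [1035, 1771] :=
  killed2_of (a := 1035) (b := 1771) (N := 192) (by decide +kernel) (by decide +kernel)

theorem j1 : Killed2 19 [56, 76] :=
  killed2_of (a := 56) (b := 76) (N := 23) (by decide +kernel) (by decide +kernel)

theorem j2 : Killed2 7 [36, 63] :=
  killed2_of (a := 36) (b := 63) (N := 27) (by decide +kernel) (by decide +kernel)

theorem j3 : Killed2 19 [1215, 3078] :=
  killed2_of (a := 1215) (b := 3078) (N := 273) (by decide +kernel) (by decide +kernel)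

theorem j4 : Killed2 43 [889111, 1776888, 4290927, 35411145, 95288172] :=
  killed2_of (a := 889111) (b := 1776888) (N := 84681) (by decide +kernel) (by decide +kernel)

theorem co1 : Killed2 23 [276, 299] :=
  killed2_of (a := 276) (b := 299) (N := 54) (by decide +kernel) (by decide +kernel)

theorem co2 : Killed2 23 [275, 23] :=
  killed2_of (a := 275) (b := 23) (N := 53) (by decide +kernel) (by decide +kernel)

theorem co3 : Killed2 23 [2024, 8855] :=
  killed2_of (a := 2024) (b := 8855) (N := 371) (by decide +kernel) (by decide +kernel)

theorem mcl : Killed2 11 [252, 22] :=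
  killed2_of (a := 252) (b := 22) (N := 104) (by decide +kernel) (by decide +kernel)

theorem hs : Killed2 11 [22, 77] :=
  killed2_of (a := 22) (b := 77) (N := 23) (by decide +kernel) (by decide +kernel)

theorem suz : Killed2 13 [780, 1001] :=
  killed2_of (a := 780) (b := 1001) (N := 263) (by decide +kernel) (by decide +kernel)

theorem he : Killed2 17 [680, 1275] :=
  killed2_of (a := 680) (b := 1275) (N := 173) (by decide +kernel) (by decide +kernel)

theorem ru : Killed2 29 [783, 3276] :=
  killed2_of (a := 783) (b := 3276) (N := 115) (by decide +kernel) (by decide +kernel)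

theorem on : Killed2 31 [10944, 32395] :=
  killed2_of (a := 10944) (b := 32395) (N := 1463) (by decide +kernel) (by decide +kernel)

theorem ly : Killed2 67 [45694, 1534500] :=
  killed2_of (a := 45694) (b := 1534500) (N := 2773) (by decide +kernel) (by decide +kernel)

theorem fi22 : Killed2 13 [429, 3080] :=
  killed2_of (a := 429) (b := 3080) (N := 146) (by decide +kernel) (by decide +kernel)

theorem fi23 : Killed2 23 [782, 30888] :=
  killed2_of (a := 782) (b := 30888) (N := 146) (by decide +kernel) (by decide +kernel)

theorem fi24 : Killed2 29 [57477, 249458] :=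
  killed2_of (a := 57477) (b := 249458) (N := 8214) (by decide +kernel) (by decide +kernel)

theorem hn : Killed2 19 [8910, 365750] :=
  killed2_of (a := 8910) (b := 365750) (N := 1983) (by decide +kernel) (by decide +kernel)

theorem th : Killed2 31 [30875, 61256, 4881384] :=
  killed2_of (a := 30875) (b := 61256) (N := 4120) (by decide +kernel) (by decide +kernel)

theorem b : Killed2 47 [96255, 9458750] :=
  killed2_of (a := 96255) (b := 9458750) (N := 8373) (by decide +kernel) (by decide +kernel)

theorem m : Killed2 71 [196883, 842609326] :=
  killed2_of (a := 196883) (b := 842609326) (N := 11254) (by decide +kernel) (by decide +kernel)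

theorem tits : Killed2 13 [675, 27] :=
  killed2_of (a := 675) (b := 27) (N := 228) (by decide +kernel) (by decide +kernel)

end Cfsg.Agent.H313.AN.K
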