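import Cfsg.Agent.H487.AN.Final
import Cfsg.Agent.H313.AltDeg.KillTwo
import Cfsg.Agent.H71.AN.Deg
import Cfsg.Agent.H89.AN.AOneTwo

/-!
# S4766, C2: numerics (helper313)

`CT n k A S` : the output of the Clifford theory of a minimal normal subgroup `S ^ k`, `k ≥ 2`.

* `CT.lie` : `S` is not of Lie type;
* `CT.alt` : `S` is not alternating;
* `CT.row` : `S` is not a group with a table of degrees.
-/

set_option autoImplicit false
set_option linter.unusedSectionVars false

universe u

namespace Cfsg.Agent.H313.AN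

open Cfsg Subgroup Cfsg.Agent.H704 Cfsg.Agent.H704.DSA Cfsg.Agent.H691.AN Cfsg.Agent.H313.AD
open Cfsg.Agent.H704.DS (IM)

/-- the output of the Clifford theory of a minimal normal subgroup `S ^ k` -/
structure CT (n k : ℕ) (A : Type u) [Group A] [Finite A] (S : Subgroup A) : Prop where
  two : 2 ≤ k
  as : AlmostSimple A S
  ind : ∀ (ψ : A → ℂ) (d : ℕ), IsIrrCharacter A ψ → ψ 1 = d → (∃ s ∈ S, ψ s ≠ ψ 1) → AltDeg n (k * d)
  pow : ∀ d ∈ charDegrees S, ∃ e : ℕ, AltDeg n e ∧ d ^ k ∣ e
  ext : ∀ (ψ : A → ℂ) (d : ℕ), IsIrrCharacter A ψ → ψ 1 = d → IsIrrCharacter S (fun s : S => ψ s) →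
    AltDeg n (d ^ k)

/-- Legendre -/
theorem pow_dvd_factorial {p k n : ℕ} (hp : p.Prime) (hn : 1 ≤ n) (h : p ^ k ∣ n.factorial) :
    k * (p - 1) ≤ n - 1 := by
  have : Fact p.Prime := ⟨hp⟩
  have h1 : k ≤ padicValNat p n.factorial := (padicValNat_dvd_iff_le (Nat.factorial_pos n).ne').1 h
  have h2 : (p - 1) * padicValNat p n.factorial = n - (p.digits n).sum := sub_one_mul_padicValNat_factorial n
  have h3 : 1 ≤ (p.digits n).sum := by
    have h4 : p.digits n ≠ [] := Nat.digits_ne_nil_iff_ne_zero.2 (by omega)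
    have h5 := Nat.getLast_digit_ne_zero p (m := n) (by omega)
    have h6 : (p.digits n).getLast h4 ≤ (p.digits n).sum := List.single_le_sum (by simp) _ (List.getLast_mem h4)
    omega
  calc k * (p - 1) ≤ padicValNat p n.factorial * (p - 1) := Nat.mul_le_mul_right _ h1
    _ = n - (p.digits n).sum := by rw [mul_comm, h2]
    _ ≤ n - 1 := by omega

/-- an irreducible constant -/
theorem one_of_const {S : Type*} [Group S] [Finite S] {ψ : S → ℂ} (hψ : IsIrrCharacter S ψ)
    (h : ∀ s, ψ s = ψ 1) {d : ℕ} (hd : ψ 1 = d) : d = 1 := by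
  classical
  have := Fintype.ofFinite S
  have e1 : ψ = (d : ℂ) • (1 : S → ℂ) := by
    funext s
    rw [h s, hd, Pi.smul_apply, Pi.one_apply, smul_eq_mul, mul_one]
  have h1 := Characters.Core.classInner_irr_self hψ
  rw [e1, Characters.Core.classInner_smul_left, Characters.Core.classInner_smul_right,
    Characters.Core.classInner_irr_self Characters.Core.isIrr_one, Complex.conj_natCast, mul_one] at h1
  have h2 : d * d = 1 := by exact_mod_cast h1
  exact Nat.eq_one_of_mul_eq_one_right h2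

section

variable {n k : ℕ} {A : Type u} [Group A] [Finite A] {S : Subgroup A}

theorem CT.prime_pow (h : CT n k A S) (him : IM S) {p : ℕ} (hp : p.Prime) (hpS : p ∣ Nat.card S) :
    p ^ k ∣ n.factorial := by
  obtain ⟨ψ, e, h1, h2, h3⟩ := him p hp hpS
  obtain ⟨f, h4, h5⟩ := h.pow e (H681.DegBasic.mem_charDegrees.2 ⟨ψ, h1, h2⟩)
  exact ((pow_dvd_pow_of_dvd h3 k).trans h5).trans (IsDegA.dvd h4)

theorem CT.prime (h : CT n k A S) (hn : 1 ≤ n) (him : IM S) {p : ℕ} (hp : p.Prime) (hpS : p ∣ Nat.card S) :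
    k * (p - 1) ≤ n - 1 :=
  pow_dvd_factorial hp hn (h.prime_pow him hp hpS)

/-- over a nontrivial character of the socle -/
theorem CT.over (h : CT n k A S) (hi : S.index ∣ 2) {d : ℕ} (hd : d ∈ charDegrees S)
    (hd1 : d ≠ 1) : AltDeg n (k * d) ∨ AltDeg n (2 * (k * d)) := by
  classical
  have hS := h.as.normal
  have := Fintype.ofFinite S
  obtain ⟨ψ, hψ, hd⟩ := H681.DegBasic.mem_charDegrees.1 hd
  obtain ⟨χ, hχ, ho⟩ := H672.exists_over_subtype S hψ
  obtain ⟨h1, h2⟩ := H672.charDegree_dvd_of_over S hχ hψ ho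
  have hd' : charDegree ψ = d := H672.charDegree_of_eq hd
  rw [hd'] at h1 h2
  have hne : ∃ s ∈ S, χ s ≠ χ 1 := by
    by_contra hcon
    push Not at hcon
    rw [H672.over_subtype_iff] at ho
    apply ho
    have e1 : (fun s : S => χ s) = (χ 1) • (1 : S → ℂ) := by
      funext s
      rw [Pi.smul_apply, Pi.one_apply, smul_eq_mul, mul_one]
      exact hcon s s.2
    have e2 : (1 : S → ℂ) ≠ ψ := by
      intro h0
      apply hd1
      have h3 : ψ 1 = 1 := by rw [← h0]; rfl
      rw [hd] at h3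
      exact_mod_cast h3
    rw [e1, Characters.Core.classInner_smul_left, Characters.Core.classInner_irr_ne Characters.Core.isIrr_one hψ e2,
      mul_zero]
  have hd0 : 0 < d := by
    rw [← hd']
    exact H672.charDegree_pos hψ
  have hc : χ 1 = (charDegree χ : ℂ) := (H672.coe_charDegree hχ).symm
  have h3 := h.ind χ (charDegree χ) hχ hc hne
  obtain ⟨m, hm⟩ := h1
  rw [hm, Nat.mul_div_cancel_left _ hd0] at h2
  rw [hm] at h3
  have h4 : m = 1 ∨ m = 2 := (Nat.dvd_prime Nat.prime_two).1 (h2.trans hi)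
  rcases h4 with rfl | rfl
  · left
    rwa [mul_one] at h3
  · right
    rwa [show k * (d * 2) = 2 * (k * d) by ring] at h3

/-- **a group with a table of degrees** -/
theorem CT.row (h : CT n k A S) (him : IM S) (hi : S.index ∣ 2) {p : ℕ} {L : List ℕ} (hK : Killed2 p L)
    (hn : 1 ≤ n) (hp : p.Prime) (hp7 : 7 ≤ p) (hpS : p ∣ Nat.card S) (hL : ∀ d ∈ L, d ≠ 1 ∧ d ∈ charDegrees S) : False := by
  have h1 := h.prime hn him hp hpS
  have h2 : 2 * (p - 1) ≤ n - 1 := (Nat.mul_le_mul_right _ h.two).trans h1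
  exact hK n k (by omega) h.two h1 fun d hd => h.over hi (hL d hd).2 (hL d hd).1

theorem small_pow_chk : ((List.range 15).all fun s => (List.range 9).all fun k => (List.range 10).all fun n =>
    Nat.blt s 2 || Nat.blt k 2 || Nat.blt n 5 || !(H835.AN.degA n).contains (s ^ k) ||
    !(H835.AN.degA n).contains (k * s) || (Nat.beq n 5 && Nat.beq s 2 && Nat.beq k 2)) = true := by
  decide +kernel

theorem small_pow {s k n : ℕ} (hs : s < 15) (hk : k < 9) (hs2 : 2 ≤ s) (hk2 : 2 ≤ k) (hn : n < 10) (h5 : 5 ≤ n)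
    (h1 : s ^ k ∈ H835.AN.degA n) (h2 : k * s ∈ H835.AN.degA n) : n = 5 ∧ s = 2 ∧ k = 2 := by
  have h := small_pow_chk
  rw [List.all_eq_true] at h
  have h := h s (List.mem_range.2 hs)
  rw [List.all_eq_true] at h
  have h := h k (List.mem_range.2 hk)
  rw [List.all_eq_true] at h
  have h := h n (List.mem_range.2 hn)
  simp only [Bool.or_eq_true, Nat.blt_eq, Bool.not_eq_true', Bool.and_eq_true, Nat.beq_eq] at h
  have e1 : (H835.AN.degA n).contains (s ^ k) = true := by rw [List.contains_iff_mem]; exact h1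
  have e2 : (H835.AN.degA n).contains (k * s) = true := by rw [List.contains_iff_mem]; exact h2
  rw [e1, e2] at h
  rcases h with ((((h | h) | h) | h) | h) | ⟨⟨h, h'⟩, h''⟩
  · omega
  · omega
  · omega
  · exact absurd h (by decide)
  · exact absurd h (by decide)
  · exact ⟨h, h', h''⟩

theorem mul_lt_pow {s : ℕ} (hs : 2 ≤ s) {k : ℕ} (hk : 3 ≤ k) : k * s < s ^ k := by
  induction k, hk using Nat.le_induction with
  | base => nlinarith [Nat.mul_le_mul hs hs]
  | succ k hk ih =>
    have h1 : s * (k * s) < s * s ^ k := Nat.mul_lt_mul_of_pos_left ih (by omega)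
    have h2 : (k + 1) * s ≤ s * (k * s) := by
      have h3 : 2 * k ≤ s * k := Nat.mul_le_mul_right k hs
      calc (k + 1) * s ≤ (s * k) * s := Nat.mul_le_mul_right s (by omega)
        _ = s * (k * s) := by ring
    rw [pow_succ]
    calc (k + 1) * s ≤ s * (k * s) := h2
      _ < s * s ^ k := h1
      _ = s ^ k * s := mul_comm _ _

theorem mul_le_pow {s k : ℕ} (hk : 2 ≤ k) (hs : 2 ≤ s) : k * s ≤ s ^ k ∧ (k * s = s ^ k → s ^ k = 4) := by
  rcases Nat.lt_or_ge k 3 with h | h
  · have : k = 2 := by omega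
    subst this
    rw [pow_two]
    refine ⟨Nat.mul_le_mul_right s hs, fun h => ?_⟩
    have : s = 2 := (Nat.eq_of_mul_eq_mul_right (by omega) h).symm
    subst this
    rfl
  · have := mul_lt_pow hs h
    exact ⟨this.le, fun h1 => absurd h1 this.ne⟩

/-- **Lie type** -/
theorem CT.lie (h : CT n k A S) (h5 : 5 ≤ n) (him : IM S) {p : ℕ} (hp : p.Prime) (hl : IsLieTypeChar p S) : False := by
  classical
  have := hp
  have hF := Fact.mk hp
  have hS := h.as.normal
  have hs := h.as.simple
  have hk2 := h.two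
  obtain ⟨χ, hχ, hres, h1⟩ := H691.StExt.exists_ext S (H996.AllSplit.hasSplit_of_lie hp hl)
  obtain ⟨Q⟩ := (inferInstance : Nonempty (Sylow p S))
  have h2 := h1 Q
  rw [Q.card_eq_multiplicity] at h2
  have hpS : p ∣ Nat.card S := by
    obtain ⟨t, j, hv, ht⟩ := NotCT.exists_typ hp hl
    have ho := NotCT.card_eq hp hv ht
    refine dvd_trans ?_ (NotCT.dvd_card hp hv ho)
    apply dvd_pow_self
    have h1 := NotCT.one_le_k hv
    have h2 := NotCT.N_pos hv
    have := Nat.mul_pos h1 h2
    omega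
  obtain ⟨a, ha⟩ : ∃ a, a = (Nat.card S).factorization p := ⟨_, rfl⟩
  have ha0 : 0 < a := by rw [ha]; exact hp.factorization_pos_of_dvd Nat.card_pos.ne' hpS
  rw [← ha] at h2
  obtain ⟨s, hs'⟩ : ∃ s, s = p ^ a := ⟨_, rfl⟩
  rw [← hs'] at h2
  have hs2 : 2 ≤ s := by
    rw [hs']
    calc 2 ≤ p := hp.two_le
      _ = p ^ 1 := (pow_one p).symm
      _ ≤ p ^ a := Nat.pow_le_pow_right hp.pos ha0
  have hne : ∃ x ∈ S, χ x ≠ χ 1 := by
    by_contra hcon
    push Not at hcon
    have := one_of_const hres (fun x => hcon x x.2) (d := s) h2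
    omega
  have k1 := h.ext χ s hχ h2 hres
  have k2 := h.ind χ s hχ h2 hne
  have hks := mul_le_pow hk2 hs2
  rcases Nat.lt_or_ge n 10 with h10 | h10
  · have m1 := H487.AN.mem_degA h5 (by omega) k1
    have m2 := H487.AN.mem_degA h5 (by omega) k2
    have hb : s ^ k ≤ 216 := by
      have key : ∀ n < 10, ∀ x ∈ H835.AN.degA n, x ≤ 216 := by decide +kernel
      exact key n h10 _ m1
    have hk8 : k < 9 := by
      by_contra hcon
      have e1 : 2 ^ 9 ≤ s ^ k := (Nat.pow_le_pow_right (by norm_num) (by omega)).trans (Nat.pow_le_pow_left hs2 k)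
      omega
    have hs15 : s < 15 := by
      by_contra hcon
      have e1 : 15 ^ 2 ≤ s ^ k := (Nat.pow_le_pow_left (by omega) 2).trans (Nat.pow_le_pow_right (by omega) hk2)
      omega
    obtain ⟨rfl, rfl, rfl⟩ := small_pow hs15 hk8 hs2 hk2 h10 h5 m1 m2
    -- `|S|` is twice an odd number
    have hp2 : p = 2 := by
      have h3 : p ∣ 2 := by
        rw [hs']
        exact dvd_pow_self p (by omega)
      exact (Nat.prime_dvd_prime_iff_eq hp Nat.prime_two).1 h3
    subst hp2
    have ha1 : a = 1 := by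
      have h3 : 2 ^ 1 = 2 ^ a := by rw [pow_one]; exact hs'
      exact (Nat.pow_right_injective le_rfl h3).symm
    have hodd : ∀ r : ℕ, r.Prime → r ∣ Nat.card S → r = 2 := by
      intro r hr hrS
      by_contra hr2
      have h4 := h.prime_pow him hr hrS
      have h5' : r ∣ Nat.factorial 5 := (dvd_pow_self r (by norm_num)).trans h4
      have h6 : r ≤ 5 := (hr.dvd_factorial).1 h5'
      have h7 : (5 : ℕ).factorial = 120 := rfl
      rw [h7] at h4
      have := hr.two_le
      interval_cases r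
      · exact hr2 rfl
      · omega
      · omega
      · omega
    have h4 := Nat.eq_prime_pow_of_unique_prime_dvd (p := 2) (n := Nat.card S) Nat.card_pos.ne' (fun {d} hd hdd => hodd d hd hdd)
    obtain ⟨b, hb⟩ : ∃ b, Nat.card S = 2 ^ b := ⟨_, h4⟩
    have hb1 : b = 1 := by
      rw [ha1, hb, Nat.Prime.factorization_pow Nat.prime_two] at ha
      simpa using ha.symm
    have hc2 : Nat.card S = 2 := by rw [hb, hb1, pow_one]
    have hcyc : IsCyclic S := isCyclic_of_prime_card (p := 2) hc2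
    exact h.as.nonab inferInstance
  · have k3 : s ^ k = n - 1 := by
      rw [hs', ← pow_mul] at k1 ⊢
      exact H487.AN.ppA h10 hp (Nat.mul_pos ha0 (by omega)) k1
    rcases low_degreeA h10 k2 with k4 | k4 | k4
    · have : 1 * 2 ≤ k * s := Nat.mul_le_mul (by omega) hs2
      omega
    · omega
    · have : 7 * n ≤ n * (n - 3) := by
        rw [mul_comm]
        exact Nat.mul_le_mul_left n (by omega)
      omega

/-- almost simple groups with alternating socle -/
theorem index_alt (hA : AlmostSimple A S) {m : ℕ} (hm : 7 ≤ m) (e : S ≃* alternatingGroup (Fin m)) : S.index ∣ 2 := by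
  have hS := hA.normal
  obtain ⟨φ, hφ⟩ := H464.AltExt.exists_act S hm e
  have hinj : Function.Injective φ := by
    rw [← MonoidHom.ker_eq_bot_iff, eq_bot_iff, ← hA.cent]
    intro a ha
    rw [mem_centralizer_iff]
    intro s hs
    have h1 : s * a * s⁻¹ * a⁻¹ ∈ S := by
      have : s * a * s⁻¹ * a⁻¹ = s * (a * s⁻¹ * a⁻¹) := by group
      rw [this]
      exact S.mul_mem hs (hS.conj_mem _ (S.inv_mem hs) a)
    have h2 : φ (s * a * s⁻¹ * a⁻¹) = 1 := by
      rw [map_mul, map_mul, map_mul, map_inv, map_inv, MonoidHom.mem_ker.1 ha]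
      group
    have h3 := hφ ⟨_, h1⟩
    rw [h2] at h3
    have h4 : (⟨_, h1⟩ : S) = 1 := e.injective (Subtype.ext (by rw [← h3, map_one]; rfl))
    have h5 : s * a * s⁻¹ * a⁻¹ = 1 := congrArg Subtype.val h4
    rw [mul_inv_eq_one, mul_inv_eq_iff_eq_mul] at h5
    exact h5
  have h1 : Nat.card A ∣ m.factorial := by
    have h2 := Subgroup.card_subgroup_dvd_card φ.range
    rwa [Nat.card_congr (MonoidHom.ofInjective hinj).toEquiv.symm, Nat.card_perm, Nat.card_fin] at h2
  have h2 : Nat.card S * 2 = m.factorial := by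
    have : Nontrivial (Fin m) := Fin.nontrivial_iff_two_le.2 (by omega)
    have h3 := nat_card_alternatingGroup (α := Fin m)
    rw [Nat.card_congr e.toEquiv, h3, Nat.card_fin]
    exact Nat.div_mul_cancel (Nat.dvd_factorial (by norm_num) (by omega))
  rw [← S.card_mul_index, ← h2] at h1
  exact Nat.dvd_of_mul_dvd_mul_left Nat.card_pos h1

/-- **Alternating groups** -/
theorem CT.alt (h : CT n k A S) (h5 : 5 ≤ n) (him : IM S) {m : ℕ} (hm : 5 ≤ m) (e : S ≃* alternatingGroup (Fin m)) :
    False := by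
  have hS := h.as.normal
  have hs := h.as.simple
  have hk2 := h.two
  rcases Nat.lt_or_ge m 7 with h7 | h7
  · have : m = 5 ∨ m = 6 := by omega
    rcases this with rfl | rfl
    · exact h.lie h5 him Nat.prime_two (H759.DS.lie_four S e)
    · exact h.lie h5 him Nat.prime_three (H759.DS.lie_nine S e)
  · have hcard : Nat.card S = Nat.card (alternatingGroup (Fin m)) := Nat.card_congr e.toEquiv
    have hpr : ∀ r : ℕ, r.Prime → r ≤ m → k * (r - 1) ≤ n - 1 := fun r hr hrm =>
      h.prime (by omega) him hr (by rw [hcard]; exact H759.DS.prime_dvd_alt hm hr hrm)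
    have h13 : 13 ≤ n := by
      have h1 := hpr 7 (by norm_num) h7
      omega
    obtain ⟨r, hr, h1, h2⟩ := Nat.exists_prime_lt_and_le_two_mul (m / 2) (by omega)
    have h3 : k * (m - 1) ≤ 2 * (n - 1) := by
      have h4 := hpr r hr (by omega)
      have h5 : k * (m - 1) ≤ k * (2 * (r - 1)) := Nat.mul_le_mul_left k (by omega)
      have h6 : k * (2 * (r - 1)) = 2 * (k * (r - 1)) := by ring
      omega
    have hnn : 10 * n ≤ n * (n - 3) := by
      rw [mul_comm]
      exact Nat.mul_le_mul_left n (by omega)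
    obtain ⟨χ, hχ, hres, hχ1⟩ := H464.AltExt.alt_ext S h7 e
    have hne : ∃ x ∈ S, χ x ≠ χ 1 := by
      by_contra hcon
      push Not at hcon
      have := one_of_const hres (fun x => hcon x x.2) (d := m - 1) hχ1
      omega
    have h12 : 2 * 6 ≤ k * (m - 1) := Nat.mul_le_mul hk2 (by omega)
    have h4 : k * (m - 1) = n - 1 := by
      rcases low_degreeA (by omega) (h.ind χ (m - 1) hχ hχ1 hne) with h5 | h5 | h5
      · omega
      · exact h5
      · omega
    have h5 : (m - 1) * (m - 2) / 2 ∈ charDegrees S := by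
      rw [H424.DegTools.charDegrees_congr e]
      exact (H71.AN.a4_of (fun {_} hn {_} hl {_} hd => H89.AN.a1_mem hn hl hd) h7).2.2
    obtain ⟨c, hc⟩ : ∃ c, (m - 1) * (m - 2) = 2 * c := by
      obtain ⟨j, rfl⟩ := Nat.exists_eq_add_of_le h7
      rw [show 7 + j - 1 = (j + 5) + 1 by omega, show 7 + j - 2 = j + 5 by omega, mul_comm]
      exact (Nat.even_mul_succ_self (j + 5)).two_dvd
    rw [hc, Nat.mul_div_cancel_left _ (by norm_num)] at h5
    have hc2 : 6 * 5 ≤ (m - 1) * (m - 2) := Nat.mul_le_mul (by omega) (by omega)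
    have h6 : 2 * (k * c) = (n - 1) * (m - 2) := by
      rw [← h4]
      calc 2 * (k * c) = k * (2 * c) := by ring
        _ = k * (m - 1) * (m - 2) := by rw [← hc]; ring
    have h7' : 5 * (n - 1) ≤ (n - 1) * (m - 2) := by
      rw [mul_comm]
      exact Nat.mul_le_mul_left _ (by omega)
    have h8 : 2 * (m - 2) + 2 ≤ n - 1 := by
      have : 2 * (m - 1) ≤ k * (m - 1) := Nat.mul_le_mul_right _ hk2
      omega
    have h9 : 2 * ((n - 1) * (m - 2)) < n * (n - 3) := by
      obtain ⟨x, rfl⟩ := Nat.exists_eq_add_of_le h13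
      obtain ⟨y, hy⟩ : ∃ y, y = m - 2 := ⟨_, rfl⟩
      rw [← hy] at h8 ⊢
      rw [show 13 + x - 1 = x + 12 by omega] at h8 ⊢
      rw [show 13 + x - 3 = x + 10 by omega]
      have h10 : (x + 12) * (2 * y) ≤ (x + 12) * (x + 10) := Nat.mul_le_mul_left _ (by omega)
      nlinarith
    rcases h.over (index_alt h.as h7 e) h5 (by omega) with h10 | h10
    · rcases low_degreeA (by omega) h10 with h11 | h11 | h11 <;> omega
    · rcases low_degreeA (by omega) h10 with h11 | h11 | h11 <;> omega

end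

end Cfsg.Agent.H313.AN
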